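import Cfsg.Agent.H857.OM.Frame
import Cfsg.Agent.Mrg.Nodes.RGDAllP
import Cfsg.Agent.Mrg.Omega.EH3.Kf.TwWitt
import Cfsg.Agent.H40.OC.Fin

/-!
# S4884, the frame of `PΩ⁻_{2m+2}(F)`, `F` of characteristic two: the anti-automorphism (helper857)

* `JJ` : the isometry `b (i, true) ↔ b (i, false)`, `z ↦ z̄` on `V0`; `th` : `y ↦ J y⁻¹ J⁻¹` on `PΩ Q`;
* `rgd`, `GG_eq`, `anti`, `odd_T`, `faithful`, `lin` : **the frame**.
-/

set_option autoImplicit false
set_option linter.unusedSectionVars false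

namespace Cfsg.Agent.H857.OM

open Cfsg.Agent.ChevalleyStructure.CoxeterGeom Cfsg.Agent.Tits.Roots Cfsg.Agent.Nodes.TypeC
open Cfsg.Agent.Nodes.Comb Cfsg.Agent.Nodes.Reps Cfsg.Agent.Nodes.WittRoot Cfsg.Agent.Nodes.BNOf
open Cfsg.Agent.TitsThree Cfsg.Agent.TitsThree.Siegel Cfsg.Agent.TitsThree.SiegelGen
  Cfsg.Agent.TitsThree.WittFrame Cfsg.Agent.TitsThree.WittWeyl Cfsg.Agent.TitsThree.WBridge
  Cfsg.Agent.TitsThree.KSideO
open Cfsg.Agent.KFacts.WittOrth Cfsg.Agent.KFacts.SpecMinus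
open QuadraticMap
open Cfsg.Agent.LieClassical Cfsg.Agent.LieClassical.OrthCore Cfsg.Agent.LieClassical.OrthTrans
open Cfsg.Agent.LieClassical.OrthSimple Cfsg.Agent.LieClassical.OrthFinite
open Cfsg.Agent.LieClassical.OrthForms

variable {F : Type*} [Field F] {m : ℕ} {a b : F}

/-- the isometry inverting the torus -/
def J0 (m : ℕ) (a : F) : VV m F →ₗ[F] VV m F where
  toFun v := Sum.elim (Sum.elim (fun i => v (Sum.inl (Sum.inr i))) (fun i => v (Sum.inl (Sum.inl i))))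
    ![v (Sum.inr 0) + a * v (Sum.inr 1), -v (Sum.inr 1)]
  map_add' v w := by
    funext j
    rcases j with (j | j) | j
    · rfl
    · rfl
    · fin_cases j
      · simp; ring
      · simp; ring
  map_smul' c v := by
    funext j
    rcases j with (j | j) | j
    · rfl
    · rfl
    · fin_cases j
      · simp; ring
      · simp

theorem J0_J0 : Function.Involutive (J0 m a) := by
  intro v
  funext j
  rcases j with (j | j) | j
  · rfl
  · rfl
  · fin_cases j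
    · change (v (Sum.inr 0) + a * v (Sum.inr 1)) + a * -v (Sum.inr 1) = v (Sum.inr 0)
      ring
    · change - -v (Sum.inr 1) = v (Sum.inr 1)
      ring

/-- the isometry inverting the torus -/
def JJ (m : ℕ) (a : F) : VV m F ≃ₗ[F] VV m F := LinearEquiv.ofInvolutive (J0 m a) J0_J0

theorem JJ_JJ (v : VV m F) : JJ m a (JJ m a v) = v := J0_J0 v

theorem JJ_inv : (JJ m a)⁻¹ = JJ m a := by
  rw [inv_eq_iff_mul_eq_one]
  ext1 v
  exact JJ_JJ v

theorem JJ_mem : JJ m a ∈ O (minusForm m F a b) := by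
  refine mem_O.2 fun v => ?_
  rw [coe_minusForm, quadFormMinus_apply, quadFormMinus_apply]
  have h1 : ∀ i, JJ m a v (Sum.inl (Sum.inl i)) = v (Sum.inl (Sum.inr i)) := fun _ => rfl
  have h2 : ∀ i, JJ m a v (Sum.inl (Sum.inr i)) = v (Sum.inl (Sum.inl i)) := fun _ => rfl
  have h3 : JJ m a v (Sum.inr 0) = v (Sum.inr 0) + a * v (Sum.inr 1) := rfl
  have h4 : JJ m a v (Sum.inr 1) = -v (Sum.inr 1) := rfl
  simp only [h1, h2, h3, h4]
  have h5 : ∑ i : Fin m, v (Sum.inl (Sum.inr i)) * v (Sum.inl (Sum.inl i)) =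
      ∑ i : Fin m, v (Sum.inl (Sum.inl i)) * v (Sum.inl (Sum.inr i)) :=
    Finset.sum_congr rfl fun i _ => mul_comm _ _
  rw [h5]
  ring

theorem JJ_io (z : KK a b) : JJ m a (io m a b z) = io m a b (star z) := by
  funext j
  rcases j with (j | j) | j
  · rfl
  · rfl
  · fin_cases j
    · rfl
    · rfl

variable (hab : ∀ z₁ z₂ : F, z₁ ^ 2 + a * z₁ * z₂ + b * z₂ ^ 2 = 0 → z₁ = 0 ∧ z₂ = 0)

theorem JJ_t (i : Fin m) : JJ m a ((FF m hab).b (i, true)) = (FF m hab).b (i, false) := by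
  have e1 : (FF m hab).b (i, true) = Pi.single (Sum.inl (Sum.inl i)) 1 := rfl
  have e2 : (FF m hab).b (i, false) = Pi.single (Sum.inl (Sum.inr i)) 1 := rfl
  rw [e1, e2]
  funext j
  rcases j with (j | j) | j
  · change (Pi.single (Sum.inl (Sum.inl i)) 1 : VV m F) (Sum.inl (Sum.inr j)) = _
    simp
  · change (Pi.single (Sum.inl (Sum.inl i)) 1 : VV m F) (Sum.inl (Sum.inl j)) = _
    simp [Pi.single_apply]
  · fin_cases j
    · change (Pi.single (Sum.inl (Sum.inl i)) 1 : VV m F) (Sum.inr 0) +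
        a * (Pi.single (Sum.inl (Sum.inl i)) 1 : VV m F) (Sum.inr 1) = _
      simp
    · change -(Pi.single (Sum.inl (Sum.inl i)) 1 : VV m F) (Sum.inr 1) = _
      simp

theorem JJ_b (x : Fin m × Bool) : JJ m a ((FF m hab).b x) = (1 : F) • (FF m hab).b (ng x) := by
  rw [one_smul]
  obtain ⟨i, s⟩ := x
  cases s
  · have h1 : (FF m hab).b (ng (i, false)) = JJ m a (JJ m a ((FF m hab).b (i, true))) := (JJ_JJ _).symm
    rw [h1, JJ_t]
  · exact JJ_t hab i

variable [Finite F] [CharP F 2]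

theorem JJ_iso : (HO (minusForm m F a b)).IsIso (JJ m a) := fun v w => polar_map JJ_mem v w

theorem conj_J {x : Fin m → ℤ} {W : Type*} [Group W] (cs : CoxeterSystem (CoxeterMatrix.B m) W)
    (hx : IsRoot cs (isCartan m) x) {g : VV m F ≃ₗ[F] VV m F} (hg : g ∈ rg (FF m hab) x) :
    JJ m a * g * (JJ m a)⁻¹ ∈ rg (FF m hab) (-x) := by
  have O := orth (m := m) hab
  obtain ⟨c, d, hcd, e⟩ := exists_of_isRoot cs hx
  have e' : ee (-x) = wt (ng c) + wt (ng d) := by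
    rw [ee_neg, e, wt_ng, wt_ng]; abel
  rw [rg_eq _ hcd e] at hg
  rw [rg_eq _ hcd.ng e']
  rcases hcd with hcd | rfl
  · rw [PG_ne _ hcd] at hg
    obtain ⟨t, rfl⟩ := hg
    rw [PG_ne (FF m hab) (a := ng c) (b := ng d) hcd, mem_XG,
      conj_X (FF m hab) JJ_iso hcd (x' := ng c) (y' := ng d) hcd (JJ_b hab c) (JJ_b hab d)]
    exact ⟨_, rfl⟩
  · rw [PG_self] at hg ⊢
    obtain ⟨p, rfl⟩ := hg
    obtain ⟨z, rfl⟩ := adm_surj hab p
    rw [mem_ZG, conj_Z (FF m hab) JJ_iso (JJ_b hab c) (adm hab m z) (adm hab m (star z))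
      (by rw [adm_w, adm_w, JJ_io]) (by rw [adm_c, adm_c, QuadraticAlgebra.norm_star])]
    exact ⟨_, rfl⟩

variable {hab}

theorem Dt.inv' {g : VV m F ≃ₗ[F] VV m F} {l : Fin m → F} {u : KK a b} (h : Dt hab g l u) :
    JJ m a * g⁻¹ * (JJ m a)⁻¹ = g := by
  have huu := mul_star_of_norm h.nu
  refine Dt.ext (hab := hab) (l := l) (u := u) ⟨conj_mem_E JJ_mem (inv_mem h.mem), h.ne, h.nu, fun i => ?_, fun i => ?_,
    fun z => ?_⟩ h
  · rw [JJ_inv, mul_apply', mul_apply', JJ_t]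
    have h1 : g⁻¹ ((FF m hab).b (i, false)) = l i • (FF m hab).b (i, false) := by
      apply inv_apply_of
      rw [map_smul, h.f, smul_smul, mul_inv_cancel₀ (h.ne i), one_smul]
    rw [h1, map_smul, JJ_b, one_smul]
    rfl
  · rw [JJ_inv, mul_apply', mul_apply', JJ_b, one_smul]
    have h1 : g⁻¹ ((FF m hab).b (ng (i, false))) = (l i)⁻¹ • (FF m hab).b (ng (i, false)) := by
      apply inv_apply_of
      change g ((l i)⁻¹ • (FF m hab).b (i, true)) = (FF m hab).b (i, true)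
      rw [map_smul, h.t, smul_smul, inv_mul_cancel₀ (h.ne i), one_smul]
    rw [h1, map_smul, JJ_b, one_smul]
    rfl
  · rw [JJ_inv, mul_apply', mul_apply', JJ_io]
    have h1 : g⁻¹ (io m a b (star z)) = io m a b (star u * star z) := by
      apply inv_apply_of
      rw [h.v, ← mul_assoc, huu, one_mul]
    rw [h1, JJ_io, ← star_mul, star_star, mul_comm]

variable (hab)

/-! ### the anti-automorphism of `PΩ` -/

/-- the anti-automorphism `y ↦ J y⁻¹ J⁻¹` -/
noncomputable def th (hm : 2 ≤ m) (y : Cfsg.POmega F ⇑(minusForm m F a b)) : Cfsg.POmega F ⇑(minusForm m F a b) :=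
  (modelMinus hm a b hab).φ ⟨JJ m a * ((Function.surjInv (phi_surj hab hm) y : (modelMinus hm a b hab).I) :
    VV m F ≃ₗ[F] VV m F)⁻¹ * (JJ m a)⁻¹, conj_mem_E JJ_mem (inv_mem (Function.surjInv (phi_surj hab hm) y).2)⟩

theorem th_phi (hm : 2 ≤ m) {g : VV m F ≃ₗ[F] VV m F} (hg : g ∈ (modelMinus hm a b hab).I) :
    th hab hm ((modelMinus hm a b hab).φ ⟨g, hg⟩) =
      (modelMinus hm a b hab).φ ⟨JJ m a * g⁻¹ * (JJ m a)⁻¹, conj_mem_E JJ_mem (inv_mem hg)⟩ := by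
  have h1 : Function.surjInv (phi_surj hab hm) ((modelMinus hm a b hab).φ ⟨g, hg⟩) = ⟨g, hg⟩ :=
    phi_inj hab hm (Function.surjInv_eq (phi_surj hab hm) _)
  unfold th
  congr 1
  apply Subtype.ext
  change JJ m a * ((Function.surjInv (phi_surj hab hm) ((modelMinus hm a b hab).φ ⟨g, hg⟩) :
    (modelMinus hm a b hab).I) : VV m F ≃ₗ[F] VV m F)⁻¹ * (JJ m a)⁻¹ = _
  rw [h1]

theorem th_mul (hm : 2 ≤ m) (x y : Cfsg.POmega F ⇑(minusForm m F a b)) :
    th hab hm (x * y) = th hab hm y * th hab hm x := by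
  obtain ⟨⟨g, hg⟩, rfl⟩ := phi_surj hab hm x
  obtain ⟨⟨k, hk⟩, rfl⟩ := phi_surj hab hm y
  rw [← map_mul]
  have e : (⟨g, hg⟩ * ⟨k, hk⟩ : (modelMinus hm a b hab).I) = ⟨g * k, mul_mem hg hk⟩ := rfl
  rw [e, th_phi, th_phi, th_phi, ← map_mul]
  congr 1
  apply Subtype.ext
  change JJ m a * (g * k)⁻¹ * (JJ m a)⁻¹ = (JJ m a * k⁻¹ * (JJ m a)⁻¹) * (JJ m a * g⁻¹ * (JJ m a)⁻¹)
  group

theorem th_th (hm : 2 ≤ m) (x : Cfsg.POmega F ⇑(minusForm m F a b)) : th hab hm (th hab hm x) = x := by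
  obtain ⟨⟨g, hg⟩, rfl⟩ := phi_surj hab hm x
  rw [th_phi]
  refine (th_phi hab hm (g := JJ m a * g⁻¹ * (JJ m a)⁻¹) (conj_mem_E JJ_mem (inv_mem hg))).trans ?_
  congr 1
  apply Subtype.ext
  change JJ m a * (JJ m a * g⁻¹ * (JJ m a)⁻¹)⁻¹ * (JJ m a)⁻¹ = g
  have h1 : JJ m a * JJ m a = 1 := by
    have := inv_mul_cancel (JJ m a)
    rwa [JJ_inv] at this
  calc JJ m a * (JJ m a * g⁻¹ * (JJ m a)⁻¹)⁻¹ * (JJ m a)⁻¹ = (JJ m a * JJ m a) * g * (JJ m a * JJ m a)⁻¹ := by group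
    _ = g := by rw [h1]; group

theorem th_T (hm : 2 ≤ m) {t : Cfsg.POmega F ⇑(minusForm m F a b)}
    (ht : t ∈ Nodes.WittModel.T (modelMinus hm a b hab)) : th hab hm t = t := by
  have : Fact (∀ r : F, r ^ 2 ≠ -b + a * r) := fact_of hab
  obtain ⟨g, l, u, h, rfl⟩ := (mem_T hab hm).1 ht
  refine (th_phi hab hm h.mem).trans ?_
  congr 1
  exact Subtype.ext h.inv'

theorem th_X (hm : 2 ≤ m) {W : Type*} [Group W] (cs : CoxeterSystem (CoxeterMatrix.B m) W) {x : Fin m → ℤ}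
    (hx : IsRoot cs (isCartan m) x) {u : Cfsg.POmega F ⇑(minusForm m F a b)}
    (hu : u ∈ Nodes.WittModel.X (modelMinus hm a b hab) x) :
    th hab hm u ∈ Nodes.WittModel.X (modelMinus hm a b hab) (-x) := by
  obtain ⟨g, hg, h1, rfl⟩ := (Nodes.WittModel.mem_X _).1 hu
  rw [th_phi]
  exact (Nodes.WittModel.mem_X _).2 ⟨_, conj_mem_E JJ_mem (inv_mem hg), conj_J hab cs hx (inv_mem h1), rfl⟩

/-! ### The frame -/

/-- an admissible pair -/
noncomputable def q0 (m : ℕ) {a b : F}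
    (hab : ∀ z₁ z₂ : F, z₁ ^ 2 + a * z₁ * z₂ + b * z₂ ^ 2 = 0 → z₁ = 0 ∧ z₂ = 0) : (FF m hab).Adm :=
  (orth_minus (F := F) CharTwo.two_eq_zero m a b hab).p0.choose

theorem q0_ne : (q0 m hab).c ≠ 0 := (orth_minus (F := F) CharTwo.two_eq_zero m a b hab).p0.choose_spec

/-- the representatives of the simple reflections -/
noncomputable def nw (hm : 2 ≤ m) (i : Fin m) : Cfsg.POmega F ⇑(minusForm m F a b) :=
  (modelMinus hm a b hab).φ ⟨Nodes.WittRGD.nn (FF m hab) (q0 m hab) i,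
    Nodes.WittAll.nn_mem (ambT_minus CharTwo.two_eq_zero hm a b hab) (q0 m hab) i⟩

variable {W : Type*} [Group W] (cs : CoxeterSystem (CoxeterMatrix.B m) W)

/-- **the root group datum** -/
theorem rgd (hm : 2 ≤ m) : RGD cs (isCartan m) 2 (Nodes.WittModel.T (modelMinus hm a b hab)) (nw hab hm)
    (Nodes.WittModel.X (modelMinus hm a b hab)) := by
  have : Fact (Nat.Prime 2) := ⟨Nat.prime_two⟩
  exact Nodes.WittAll.rgdC_model (modelMinus hm a b hab) (ambT_minus CharTwo.two_eq_zero hm a b hab) (q0_ne hab) cs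

theorem GG_eq (hm : 2 ≤ m) : Nodes.Bruhat.GG cs (isCartan m) (Nodes.WittModel.T (modelMinus hm a b hab))
    (Nodes.WittModel.X (modelMinus hm a b hab)) = ⊤ := by
  have h1 := Nodes.WittModel.G1_eq_top (modelMinus hm a b hab) (by omega) cs
  rw [eq_top_iff, ← h1]
  exact le_sup_right

/-- **the anti-automorphism** -/
theorem anti [Finite W] (hm : 2 ≤ m) : H148.GG.Anti (rgd hab cs hm) (th hab hm) :=
  H148.GG.anti_of_root (rgd hab cs hm) (GG_eq hab cs hm) (th_mul hab hm) (th_th hab hm) (fun _ ht => th_T hab hm ht)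
    fun _ hx _ hu => th_X hab hm cs hx hu

include hab in
theorem finite_Y (hm : 2 ≤ m) : Finite (Cfsg.POmega F ⇑(minusForm m F a b)) := by
  have : Finite (VV m F ≃ₗ[F] VV m F) :=
    Finite.of_injective (fun g : VV m F ≃ₗ[F] VV m F => (g : VV m F → VV m F)) DFunLike.coe_injective
  exact Finite.of_surjective _ (phi_surj hab hm)

/-- **the torus has odd order** -/
theorem odd_T (hm : 2 ≤ m) : Odd (Nat.card (Nodes.WittModel.T (modelMinus hm a b hab))) :=
  Nat.coprime_two_right.1 (rgd hab (CoxeterMatrix.B m).toCoxeterSystem hm).tcop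

/-- **the nonsimple positive root groups are generated by commutators** -/
theorem commGen (hm : 2 ≤ m) : Omega.EH3.Kf.Lev.CommGen cs (isCartan m)
    (Nodes.WittModel.X (modelMinus hm a b hab)) := fun _ hr h0 hs =>
  (Omega.EH3.Kf.TwWitt.gd_of_surj (modelMinus hm a b hab) (Omega.EH3.Kf.OMinusBd.exists_h_minus a b hab)).gen
    cs hr h0 hs

section

variable [Hab : Fact (∀ r : F, r ^ 2 ≠ -b + a * r)]

/-- **the coordinates of the torus are faithful** -/
theorem eq_one_of_a (hm : 2 ≤ m) (t : Nodes.WittModel.T (modelMinus hm a b hab))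
    (ht : ∀ i, (adj hab hm).a i t = 1) : t = 1 :=
  have : Finite (CoxeterMatrix.B m).Group := finite_W (CoxeterMatrix.B m).toCoxeterSystem
  H148.GG.faithful (rgd hab (CoxeterMatrix.B m).toCoxeterSystem hm) (GG_eq hab _ hm)
    (fun _ hs _ ht => comm_T hab hm hs ht) (center_eq_bot hab hm) (adj hab hm) t ht

/-- **linear characters of `U`** -/
theorem lin [Finite W] (hm : 2 ≤ m)
    (f : ↥(H40.OC.UU cs (isCartan m) (Nodes.WittModel.X (modelMinus hm a b hab))) →* ℂˣ)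
    (u : ↥(H40.OC.UU cs (isCartan m) (Nodes.WittModel.X (modelMinus hm a b hab))))
    (hu : ∀ i, H40.OC.co (rgd hab cs hm) (adj hab hm) i u = 1) : f u = 1 :=
  H148.GG.lin_of_commGen (rgd hab cs hm) (commGen hab cs hm) (adj hab hm) f u hu

end

end Cfsg.Agent.H857.OM
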