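import Mathlib.Algebra.QuadraticAlgebra.Basic
import Mathlib.FieldTheory.Finite.Basic
import Mathlib.Tactic

/-!
# S4884, frame of `PΩ⁻`: the quadratic extension (helper857)

* `KK a b` : the quadratic algebra with norm `x² + a x y + b y²`; `fact_of` : it is a field if the norm is anisotropic;
* `isom` : an `F`-linear isometry of the norm form is `z ↦ u z` or `z ↦ u z̄`, `u` of norm one;
* `exists_sq`, `exists_sq_norm` : square roots in characteristic two.
-/

set_option autoImplicit false

namespace Cfsg.Agent.H857.OM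

open QuadraticAlgebra

section

variable {F : Type*} [Field F] (a b : F)

/-- the quadratic extension with norm form `x² + a x y + b y²` -/
abbrev KK (a b : F) : Type _ := QuadraticAlgebra F (-b) a

variable {a b}

theorem fact_of (hab : ∀ z₁ z₂ : F, z₁ ^ 2 + a * z₁ * z₂ + b * z₂ ^ 2 = 0 → z₁ = 0 ∧ z₂ = 0) :
    Fact (∀ r : F, r ^ 2 ≠ -b + a * r) :=
  ⟨fun r hr => one_ne_zero (neg_eq_zero.1 (hab r (-1) (by linear_combination hr)).2)⟩

theorem norm_eq (z : KK a b) : norm z = z.re ^ 2 + a * z.re * z.im + b * z.im ^ 2 := by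
  rw [norm_def]; ring

theorem mul_star_self_eq (z : KK a b) : z * star z = algebraMap F (KK a b) (norm z) :=
  (algebraMap_norm_eq_mul_star z).symm

theorem mul_star_of_norm {u : KK a b} (hu : norm u = 1) : u * star u = 1 := by
  rw [mul_star_self_eq, hu, map_one]

theorem eq_re_im (z : KK a b) : z = z.re • (1 : KK a b) + z.im • (omega : KK a b) := by
  ext <;> simp [QuadraticAlgebra.re_one, QuadraticAlgebra.im_one]

theorem norm_add (z w : KK a b) : norm (z + w) = norm z + norm w + trace (z * star w) := by
  rw [norm_eq, norm_eq, norm_eq, trace_def]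
  simp only [re_add, im_add, re_mul, im_mul, re_star, im_star]
  ring

variable [Hab : Fact (∀ r : F, r ^ 2 ≠ -b + a * r)]

/-- **isometries of the norm form** -/
theorem isom {f : KK a b →ₗ[F] KK a b} (hf : ∀ z, norm (f z) = norm z) :
    norm (f 1) = 1 ∧ ((∀ z, f z = f 1 * z) ∨ ∀ z, f z = f 1 * star z) := by
  set u := f 1 with hu
  have hu1 : norm u = 1 := by rw [hu, hf, map_one]
  have huu : u * star u = 1 := mul_star_of_norm hu1
  set w := star u * f omega with hw
  have hfw : f omega = u * w := by rw [hw, ← mul_assoc, huu, one_mul]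
  have hnw : norm w = norm (omega : KK a b) := by
    rw [← hf omega, hfw, map_mul QuadraticAlgebra.norm u w, hu1, one_mul]
  have htw : trace w = trace (omega : KK a b) := by
    have h1 : norm (f (omega + 1)) = norm ((omega : KK a b) + 1) := hf _
    rw [map_add, hfw, ← hu] at h1
    have h2 : u * w + u = u * (w + 1) := by ring
    rw [h2, map_mul, hu1, one_mul, norm_add, norm_add, hnw, star_one, mul_one, mul_one] at h1
    exact add_left_cancel h1
  have key : (w - omega) * (w - star (omega : KK a b)) = 0 := by
    have h1 := sq_sub_trace_smul_add_norm_eq_zero w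
    have h2 : (w - omega) * (w - star (omega : KK a b)) =
        w ^ 2 - (omega + star (omega : KK a b)) * w + omega * star (omega : KK a b) := by ring
    rw [h2, ← algebraMap_trace_eq_add_star, mul_star_self_eq, ← htw, ← hnw, ← Algebra.smul_def]
    exact h1
  have hz : ∀ z : KK a b, f z = u * (z.re • (1 : KK a b) + z.im • w) := by
    intro z
    conv_lhs => rw [eq_re_im z]
    rw [map_add, map_smul, map_smul, ← hu, hfw, mul_add, mul_smul_comm, mul_smul_comm, mul_one]
  refine ⟨hu1, ?_⟩
  rcases mul_eq_zero.1 key with h | h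
  · left
    intro z
    rw [hz, sub_eq_zero.1 h, ← eq_re_im z]
  · right
    intro z
    rw [hz, sub_eq_zero.1 h]
    congr 1
    ext <;> simp [QuadraticAlgebra.re_one, QuadraticAlgebra.im_one, mul_comm]

end

section Two

variable {K : Type*} [Field K] [Finite K] [CharP K 2]

theorem exists_sq (x : K) : ∃ y : K, y ^ 2 = x := by
  obtain ⟨c, hc⟩ : IsSquare x := FiniteField.isSquare_of_char_two (ringChar.eq_iff.2 inferInstance) x
  exact ⟨c, by rw [hc, pow_two]⟩

omit [Finite K] in
theorem eq_one_of_sq {x : K} (h : x ^ 2 = 1) : x = 1 := by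
  have h1 : (x - 1) ^ 2 = 0 := by
    rw [sub_sq, h]
    have : (2 : K) = 0 := CharTwo.two_eq_zero
    linear_combination (1 - x) * this
  exact sub_eq_zero.1 (pow_eq_zero_iff two_ne_zero |>.1 h1)

end Two

section Two'

variable {F : Type*} [Field F] {a b : F}

theorem charP_KK [CharP F 2] : CharP (KK a b) 2 :=
  charP_of_injective_algebraMap (algebraMap_injective (R := F) (a := -b) (b := a)) 2

theorem finite_KK [Finite F] : Finite (KK a b) := Finite.of_equiv _ (equivProd (-b) a).symm

/-- square roots of the elements of norm one have norm one -/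
theorem exists_sq_norm [Finite F] [CharP F 2] [Hab : Fact (∀ r : F, r ^ 2 ≠ -b + a * r)] {u : KK a b}
    (hu : norm u = 1) : ∃ w : KK a b, norm w = 1 ∧ w ^ 2 = u := by
  have : CharP (KK a b) 2 := charP_KK
  have : Finite (KK a b) := finite_KK
  obtain ⟨w, hw⟩ := exists_sq u
  refine ⟨w, eq_one_of_sq ?_, hw⟩
  rw [← map_pow, hw, hu]

end Two'

end Cfsg.Agent.H857.OM
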