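import Cfsg.Agent.H857.OM.Tor
import Cfsg.Agent.H148.GG.Par
import Cfsg.Agent.H148.GG.GGOne

/-!
# S4884, the frame of `PΩ⁻_{2m+2}(F)`, `F` of characteristic two (helper857)

* `phi_inj` : `E Q → PΩ Q` is injective;
* `SF i`, `yy i`, `al l u i` : the fields, the simple root elements, the characters of the torus;
* `exists_lu` : all families of scalars occur;
* `par : Par T X (SF i)`, `adj : Adj T X (SF i)`.
-/

set_option autoImplicit false
set_option linter.unusedSectionVars false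

namespace Cfsg.Agent.H857.OM

open Cfsg.Agent.ChevalleyStructure.CoxeterGeom Cfsg.Agent.Tits.Roots Cfsg.Agent.Nodes.TypeC
open Cfsg.Agent.Nodes.Comb Cfsg.Agent.Nodes.Reps Cfsg.Agent.Nodes.WittRoot
open Cfsg.Agent.TitsThree Cfsg.Agent.TitsThree.Siegel Cfsg.Agent.TitsThree.SiegelGen
  Cfsg.Agent.TitsThree.WittFrame Cfsg.Agent.TitsThree.WittWeyl Cfsg.Agent.TitsThree.WBridge
  Cfsg.Agent.TitsThree.KSideO
open Cfsg.Agent.KFacts.WittOrth Cfsg.Agent.KFacts.SpecMinus
open QuadraticMap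
open Cfsg.Agent.LieClassical Cfsg.Agent.LieClassical.OrthCore Cfsg.Agent.LieClassical.OrthTrans
open Cfsg.Agent.LieClassical.OrthSimple Cfsg.Agent.LieClassical.OrthFinite
open Cfsg.Agent.LieClassical.OrthForms

variable {F : Type*} [Field F] [Finite F] [CharP F 2] {m : ℕ} {a b : F}
  (hab : ∀ z₁ z₂ : F, z₁ ^ 2 + a * z₁ * z₂ + b * z₂ ^ 2 = 0 → z₁ = 0 ∧ z₂ = 0)

/-! ### the map `E Q → PΩ Q` -/

include hab in
/-- scalars of `E Q` are trivial -/
theorem eq_one_of_scalar (hm : 0 < m) {g : VV m F ≃ₗ[F] VV m F} (hg : g ∈ E (minusForm m F a b)) {c : F}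
    (hc : ∀ v, g v = c • v) : g = 1 := by
  have O := orth (m := m) hab
  have h1 : polar (minusForm m F a b) (g ((FF m hab).b (⟨0, hm⟩, true))) (g ((FF m hab).b (⟨0, hm⟩, false))) = _ :=
    polar_map (E_le_O hg) _ _
  rw [hc, hc, polar_smul_left, polar_smul_right] at h1
  have h2 : polar (minusForm m F a b) ((FF m hab).b (⟨0, hm⟩, true)) ((FF m hab).b (⟨0, hm⟩, false)) = 1 :=
    O.hbb (⟨0, hm⟩, true)
  rw [h2, smul_eq_mul, smul_eq_mul, mul_one, ← pow_two] at h1
  have h3 : c = 1 := eq_one_of_sq h1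
  ext1 v
  rw [hc, h3, one_smul]
  rfl

theorem phi_inj (hm : 2 ≤ m) : Function.Injective (modelMinus hm a b hab).φ := by
  rw [injective_iff_map_eq_one]
  intro g hg
  obtain ⟨c, hc⟩ := scalar_of_center (good_minus hm a b hab) (center_of_toPOmega (good_minus hm a b hab) hg)
  exact Subtype.ext (eq_one_of_scalar hab (by omega) g.2 hc)

theorem phi_surj (hm : 2 ≤ m) : Function.Surjective (modelMinus hm a b hab).φ :=
  toPOmega_surjective (good_minus hm a b hab)

include hab in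
theorem center_eq_bot (hm : 2 ≤ m) : Subgroup.center (Cfsg.POmega F ⇑(minusForm m F a b)) = ⊥ := by
  rw [Subgroup.eq_bot_iff_forall]
  intro z hz
  obtain ⟨g, rfl⟩ := phi_surj hab hm z
  have h1 : g ∈ Subgroup.center (E (minusForm m F a b)) := by
    refine Subgroup.mem_center_iff.2 fun k => ?_
    apply phi_inj hab hm
    have h2 := (Subgroup.mem_center_iff.1 hz) ((modelMinus hm a b hab).φ k)
    rw [map_mul, map_mul]
    exact h2
  obtain ⟨c, hc⟩ := scalar_of_center (good_minus hm a b hab) h1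
  have h3 : g = 1 := Subtype.ext (eq_one_of_scalar hab (by omega) g.2 hc)
  rw [h3, map_one]

/-! ### the fields and the simple root elements -/

section

variable [Hab : Fact (∀ r : F, r ^ 2 ≠ -b + a * r)]

/-- the field of the simple root `i` -/
def SF (m : ℕ) (a b : F) [Fact (∀ r : F, r ^ 2 ≠ -b + a * r)] (i : Fin m) : Subfield (KK a b) :=
  if (i : ℕ) + 1 < m then (algebraMap F (KK a b)).fieldRange else ⊤

omit [Finite F] [CharP F 2] in
theorem mem_SF {i : Fin m} (h : (i : ℕ) + 1 < m) {s : KK a b} : s ∈ SF m a b i ↔ algebraMap F (KK a b) s.re = s := by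
  rw [SF, if_pos h, RingHom.mem_fieldRange]
  constructor
  · rintro ⟨x, rfl⟩
    rfl
  · intro h1
    exact ⟨_, h1⟩

omit [Finite F] [CharP F 2] in
theorem mem_SF' {i : Fin m} (h : ¬ (i : ℕ) + 1 < m) (s : KK a b) : s ∈ SF m a b i := by
  rw [SF, if_neg h]
  exact Subfield.mem_top s

/-- the simple root elements -/
noncomputable def yy (i : Fin m) (s : KK a b) : VV m F ≃ₗ[F] VV m F :=
  if h : (i : ℕ) + 1 < m then (FF m hab).X (i, true) (⟨i + 1, h⟩, false) s.re
  else (FF m hab).Z (i, true) (adm hab m s)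

theorem yy_pos {i : Fin m} (h : (i : ℕ) + 1 < m) (s : KK a b) :
    yy hab i s = (FF m hab).X (i, true) (⟨i + 1, h⟩, false) s.re := dif_pos h

theorem yy_neg {i : Fin m} (h : ¬ (i : ℕ) + 1 < m) (s : KK a b) :
    yy hab i s = (FF m hab).Z (i, true) (adm hab m s) := dif_neg h

omit Hab in
theorem ne_succ {i : Fin m} (h : (i : ℕ) + 1 < m) : i ≠ ⟨i + 1, h⟩ := fun h1 => by
  have := congrArg Fin.val h1
  simp at this

theorem yy_mem (i : Fin m) (s : KK a b) : yy hab i s ∈ E (minusForm m F a b) := by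
  by_cases h : (i : ℕ) + 1 < m
  · rw [yy_pos hab h]; exact X_mem _ _ _ _
  · rw [yy_neg hab h]; exact Z_mem _ _ _

theorem yy_add (i : Fin m) (s t : KK a b) : yy hab i (s + t) = yy hab i s * yy hab i t := by
  by_cases h : (i : ℕ) + 1 < m
  · rw [yy_pos hab h, yy_pos hab h, yy_pos hab h, ← Frame.X_add]; rfl
  · rw [yy_neg hab h, yy_neg hab h, yy_neg hab h, adm_mul, Frame.Z_mul]

theorem yy_zero (i : Fin m) : yy hab i 0 = 1 := by
  have h1 := yy_add hab i 0 0
  rw [add_zero] at h1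
  exact mul_eq_left.1 h1.symm

theorem yy_eq_one {i : Fin m} {s : KK a b} (hs : s ∈ SF m a b i) (h1 : yy hab i s = 1) : s = 0 := by
  have O := orth (m := m) hab
  by_cases h : (i : ℕ) + 1 < m
  · rw [yy_pos hab h] at h1
    have h2 := O.x_inj (x := (i, true)) (y := (⟨i + 1, h⟩, false)) (ne_succ h) h1
    rw [← (mem_SF h).1 hs, h2, map_zero]
  · rw [yy_neg hab h] at h1
    have h2 := O.z_inj h1
    have h3 : (adm hab m s).w = io m a b 0 := by rw [h2, map_zero]; rfl
    exact io_injective h3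

theorem yy_inj {i : Fin m} {s t : KK a b} (hs : s ∈ SF m a b i) (ht : t ∈ SF m a b i)
    (h1 : yy hab i s = yy hab i t) : s = t := by
  have h2 : yy hab i (s - t) = 1 := by
    have h3 := yy_add hab i (s - t) t
    rw [sub_add_cancel, h1] at h3
    exact mul_eq_right.1 h3.symm
  exact sub_eq_zero.1 (yy_eq_one hab (Subfield.sub_mem _ hs ht) h2)

/-- the characters of the torus -/
noncomputable def al (l : Fin m → F) (u : KK a b) (i : Fin m) : KK a b :=
  if h : (i : ℕ) + 1 < m then algebraMap F (KK a b) (l i * (l ⟨i + 1, h⟩)⁻¹) else algebraMap F (KK a b) (l i) * u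

omit [Finite F] [CharP F 2] in
theorem al_mem (l : Fin m → F) (u : KK a b) (i : Fin m) : al l u i ∈ SF m a b i := by
  by_cases h : (i : ℕ) + 1 < m
  · rw [mem_SF h, al, dif_pos h]
    rfl
  · exact mem_SF' h _

omit [Finite F] [CharP F 2] in
theorem al_ne {l : Fin m → F} (hl : ∀ i, l i ≠ 0) {u : KK a b} (hu : QuadraticAlgebra.norm u = 1) (i : Fin m) :
    al l u i ≠ 0 := by
  have h0 : ∀ x : F, x ≠ 0 → algebraMap F (KK a b) x ≠ 0 := fun x hx h1 =>
    hx ((algebraMap F (KK a b)).injective (by rw [h1, map_zero]))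
  by_cases h : (i : ℕ) + 1 < m
  · rw [al, dif_pos h]
    exact h0 _ (mul_ne_zero (hl _) (inv_ne_zero (hl _)))
  · rw [al, dif_neg h]
    refine mul_ne_zero (h0 _ (hl _)) ?_
    rintro rfl
    rw [QuadraticAlgebra.norm_zero] at hu
    exact zero_ne_one hu

variable {hab}

theorem Dt.conj_yy {g : VV m F ≃ₗ[F] VV m F} {l : Fin m → F} {u : KK a b} (h : Dt hab g l u) {i : Fin m}
    {s : KK a b} (hs : s ∈ SF m a b i) : g * yy hab i s * g⁻¹ = yy hab i (al l u i * s) := by
  by_cases hi : (i : ℕ) + 1 < m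
  · rw [yy_pos hab hi, yy_pos hab hi, h.conjX (ne_succ hi), al, dif_pos hi]
    congr 1
    rw [← (mem_SF hi).1 hs, ← map_mul]
    rfl
  · rw [yy_neg hab hi, yy_neg hab hi, h.conjZ, al, dif_neg hi]

variable (hab)

include hab in
/-- **all families of scalars occur** -/
theorem exists_lu (hm : 0 < m) {c : Fin m → KK a b} (hc : ∀ i, c i ∈ SF m a b i) (hc0 : ∀ i, c i ≠ 0) :
    ∃ (l : Fin m → F) (u : KK a b), (∀ i, l i ≠ 0) ∧ QuadraticAlgebra.norm u = 1 ∧ ∀ i, al l u i = c i := by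
  classical
  let k : Fin m := ⟨m - 1, by omega⟩
  have hk : ¬ (k : ℕ) + 1 < m := by
    change ¬ (m - 1) + 1 < m
    omega
  obtain ⟨r, hr⟩ := exists_sq (QuadraticAlgebra.norm (c k))
  have hn0 : QuadraticAlgebra.norm (c k) ≠ 0 := fun h => hc0 k (QuadraticAlgebra.norm_eq_zero_iff_eq_zero.1 h)
  have hr0 : r ≠ 0 := by
    rintro rfl
    exact hn0 (by rw [← hr]; simp)
  let d : Fin m → F := fun i => if (i : ℕ) + 1 < m then (c i).re else 1
  have hd0 : ∀ i, d i ≠ 0 := by
    intro i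
    by_cases hi : (i : ℕ) + 1 < m
    · change (if (i : ℕ) + 1 < m then (c i).re else 1) ≠ 0
      rw [if_pos hi]
      intro h1
      apply hc0 i
      rw [← (mem_SF hi).1 (hc i), h1, map_zero]
    · change (if (i : ℕ) + 1 < m then (c i).re else 1) ≠ 0
      rw [if_neg hi]
      exact one_ne_zero
  let l : Fin m → F := fun i => (∏ j ∈ Finset.Ici i, d j) * r
  have hl0 : ∀ i, l i ≠ 0 := fun i => mul_ne_zero (Finset.prod_ne_zero_iff.2 fun j _ => hd0 j) hr0
  have hlk : l k = r := by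
    have h1 : Finset.Ici k = {k} := by
      ext j
      rw [Finset.mem_Ici, Finset.mem_singleton]
      constructor
      · intro h1
        apply Fin.ext
        have h2 : (k : ℕ) ≤ j := h1
        have h3 := j.2
        change m - 1 ≤ (j : ℕ) at h2
        change (j : ℕ) = m - 1
        omega
      · rintro rfl
        exact le_rfl
    change (∏ j ∈ Finset.Ici k, d j) * r = r
    rw [h1, Finset.prod_singleton]
    change (if (k : ℕ) + 1 < m then (c k).re else 1) * r = r
    rw [if_neg hk, one_mul]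
  refine ⟨l, algebraMap F (KK a b) r⁻¹ * c k, hl0, ?_, fun i => ?_⟩
  · rw [map_mul, QuadraticAlgebra.norm_algebraMap, ← hr, ← mul_pow, inv_mul_cancel₀ hr0, one_pow]
  · by_cases hi : (i : ℕ) + 1 < m
    · rw [al, dif_pos hi]
      have h1 : Finset.Ici i = insert i (Finset.Ici (⟨i + 1, hi⟩ : Fin m)) := by
        ext j
        rw [Finset.mem_insert, Finset.mem_Ici, Finset.mem_Ici, Fin.le_def, Fin.le_def, Fin.ext_iff]
        simp only
        omega
      have h2 : i ∉ Finset.Ici (⟨i + 1, hi⟩ : Fin m) := by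
        rw [Finset.mem_Ici, Fin.le_def]
        simp
      have h3 : l i = d i * l ⟨i + 1, hi⟩ := by
        change (∏ j ∈ Finset.Ici i, d j) * r = d i * ((∏ j ∈ Finset.Ici (⟨i + 1, hi⟩ : Fin m), d j) * r)
        rw [h1, Finset.prod_insert h2, mul_assoc]
      rw [h3, mul_assoc, mul_inv_cancel₀ (hl0 _), mul_one]
      change algebraMap F (KK a b) (if (i : ℕ) + 1 < m then (c i).re else 1) = c i
      rw [if_pos hi]
      exact (mem_SF hi).1 (hc i)
    · have hik : i = k := by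
        apply Fin.ext
        have := i.2
        change (i : ℕ) = m - 1
        omega
      rw [al, dif_neg hi, hik, hlk, ← mul_assoc, ← map_mul, mul_inv_cancel₀ hr0, map_one, one_mul]

/-! ### the coordinates of the simple root groups of `PΩ` -/

theorem mem_T (hm : 2 ≤ m) {t : Cfsg.POmega F ⇑(minusForm m F a b)} :
    t ∈ Nodes.WittModel.T (modelMinus hm a b hab) ↔ ∃ (g : VV m F ≃ₗ[F] VV m F) (l : Fin m → F) (u : KK a b)
      (h : Dt hab g l u), t = (modelMinus hm a b hab).φ ⟨g, h.mem⟩ := by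
  constructor
  · rintro ⟨⟨g, hg⟩, h, rfl⟩
    obtain ⟨l, u, h1⟩ := exists_of_tor hm (Subgroup.mem_subgroupOf.1 h)
    exact ⟨g, l, u, h1, rfl⟩
  · rintro ⟨g, l, u, h, rfl⟩
    exact ⟨⟨g, h.mem⟩, Subgroup.mem_subgroupOf.2 h.tor, rfl⟩

theorem mem_rg {i : Fin m} {g : VV m F ≃ₗ[F] VV m F} :
    g ∈ rg (FF m hab) (sr i) ↔ ∃ s ∈ SF m a b i, g = yy hab i s := by
  rw [Nodes.WittRGD.rg_sr]
  by_cases hi : (i : ℕ) + 1 < m
  · have hnx : nx i = (⟨i + 1, hi⟩, false) := by unfold nx; rw [dif_pos hi]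
    rw [hnx, PG_ne (FF m hab) (a := (i, true)) (b := (⟨i + 1, hi⟩, false)) (ne_succ hi), mem_XG]
    constructor
    · rintro ⟨t, rfl⟩
      exact ⟨algebraMap F (KK a b) t, (mem_SF hi).2 rfl, by rw [yy_pos hab hi]; rfl⟩
    · rintro ⟨s, -, rfl⟩
      exact ⟨s.re, yy_pos hab hi s⟩
  · have hnx : nx i = (i, true) := by unfold nx; rw [dif_neg hi]
    rw [hnx, PG_self, mem_ZG]
    constructor
    · rintro ⟨p, rfl⟩
      obtain ⟨z, rfl⟩ := adm_surj hab p
      exact ⟨z, mem_SF' hi z, (yy_neg hab hi z).symm⟩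
    · rintro ⟨s, -, rfl⟩
      exact ⟨_, yy_neg hab hi s⟩

/-- the parametrisation of the simple root groups -/
noncomputable def pr (hm : 2 ≤ m) (i : Fin m) :
    Multiplicative ↥(SF m a b i) →* Cfsg.POmega F ⇑(minusForm m F a b) where
  toFun s := (modelMinus hm a b hab).φ ⟨yy hab i ((Multiplicative.toAdd s : ↥(SF m a b i)) : KK a b), yy_mem hab i _⟩
  map_one' := by
    have h1 : (⟨yy hab i ((Multiplicative.toAdd (1 : Multiplicative ↥(SF m a b i)) : ↥(SF m a b i)) : KK a b),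
        yy_mem hab i _⟩ : (modelMinus hm a b hab).I) = 1 := Subtype.ext (yy_zero hab i)
    rw [h1, map_one]
  map_mul' s t := by
    rw [← map_mul]
    congr 1
    exact Subtype.ext (yy_add hab i _ _)

theorem pr_apply (hm : 2 ≤ m) (i : Fin m) (s : ↥(SF m a b i)) : pr hab hm i (Multiplicative.ofAdd s) =
    (modelMinus hm a b hab).φ ⟨yy hab i (s : KK a b), yy_mem hab i _⟩ := rfl

theorem conj_pr (hm : 2 ≤ m) {g : VV m F ≃ₗ[F] VV m F} {l : Fin m → F} {u : KK a b} (h : Dt hab g l u) (i : Fin m)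
    (s : ↥(SF m a b i)) : (modelMinus hm a b hab).φ ⟨g, h.mem⟩ * pr hab hm i (Multiplicative.ofAdd s) *
      ((modelMinus hm a b hab).φ ⟨g, h.mem⟩)⁻¹ = pr hab hm i (Multiplicative.ofAdd (⟨al l u i, al_mem l u i⟩ * s)) := by
  rw [pr_apply, pr_apply, ← map_inv, ← map_mul, ← map_mul]
  congr 1
  exact Subtype.ext (h.conj_yy s.2)

/-- **the parametrised simple root groups** -/
noncomputable def par (hm : 2 ≤ m) : H148.GG.Par (Nodes.WittModel.T (modelMinus hm a b hab))
    (Nodes.WittModel.X (modelMinus hm a b hab)) (fun i : Fin m => ↥(SF m a b i)) where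
  y := pr hab hm
  inj i := by
    intro s t hst
    have h1 := phi_inj hab hm hst
    have h2 := yy_inj hab (Multiplicative.toAdd s).2 (Multiplicative.toAdd t).2 (congrArg Subtype.val h1)
    exact Multiplicative.toAdd.injective (Subtype.ext h2)
  range i := by
    ext k
    rw [Nodes.WittModel.mem_X]
    constructor
    · rintro ⟨s, rfl⟩
      exact ⟨_, yy_mem hab i _, (mem_rg hab).2 ⟨_, (Multiplicative.toAdd s).2, rfl⟩, rfl⟩
    · rintro ⟨g, hg, h1, rfl⟩
      obtain ⟨s, hs, rfl⟩ := (mem_rg hab).1 h1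
      exact ⟨Multiplicative.ofAdd ⟨s, hs⟩, rfl⟩
  act i t ht := by
    obtain ⟨g, l, u, h, rfl⟩ := (mem_T hab hm).1 ht
    have h0 : (⟨al l u i, al_mem l u i⟩ : ↥(SF m a b i)) ≠ 0 := fun h1 =>
      al_ne h.ne h.nu i (congrArg Subtype.val h1)
    exact ⟨Units.mk0 _ h0, fun s => conj_pr hab hm h i s⟩
  surj c := by
    obtain ⟨l, u, hl, hu, hlu⟩ := exists_lu hab (by omega) (c := fun i => ((c i : ↥(SF m a b i)) : KK a b))
      (fun i => (c i : ↥(SF m a b i)).2) (fun i h1 => (c i).ne_zero (Subtype.ext h1))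
    obtain ⟨g, hg⟩ := exists_dt (hab := hab) (by omega) hl hu
    refine ⟨_, (mem_T hab hm).2 ⟨g, l, u, hg, rfl⟩, fun i s => ?_⟩
    rw [conj_pr hab hm hg i s]
    congr 2
    apply Subtype.ext
    change al l u i * (s : KK a b) = ((c i : ↥(SF m a b i)) : KK a b) * (s : KK a b)
    rw [hlu]

/-- **the coordinates** -/
noncomputable def adj (hm : 2 ≤ m) : H148.GG.Adj (Nodes.WittModel.T (modelMinus hm a b hab))
    (Nodes.WittModel.X (modelMinus hm a b hab)) (fun i : Fin m => ↥(SF m a b i)) := (par hab hm).adj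

/-- the torus is commutative -/
theorem comm_T (hm : 2 ≤ m) {s t : Cfsg.POmega F ⇑(minusForm m F a b)}
    (hs : s ∈ Nodes.WittModel.T (modelMinus hm a b hab)) (ht : t ∈ Nodes.WittModel.T (modelMinus hm a b hab)) :
    s * t = t * s := by
  obtain ⟨g, l, u, h, rfl⟩ := (mem_T hab hm).1 hs
  obtain ⟨g', l', u', h', rfl⟩ := (mem_T hab hm).1 ht
  rw [← map_mul, ← map_mul]
  congr 1
  apply Subtype.ext
  change g * g' = g' * g
  have h1 := h.mul h'
  have h2 := h'.mul h
  have e1 : (fun i => l' i * l i) = fun i => l i * l' i := by funext i; rw [mul_comm]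
  rw [e1, mul_comm u' u] at h2
  exact h1.ext h2

end

end Cfsg.Agent.H857.OM
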