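import Cfsg.Agent.H857.OM.Fld
import Cfsg.Agent.OddHalf.DblR.MinusTor

/-!
# S4884, frame of `PΩ⁻_{2m+2}(F)`, `F` of characteristic two: the torus (helper857)

* `io z` : the vector of `V0` with coordinate `z` in the quadratic extension `KK a b`; `adm z` : the admissible pair;
* `Dt g l u` : `g ∈ E Q` is diagonal with coefficients `l` on the frame and multiplies `V0` by `u`, `u` of norm one;
* `exists_of_tor`, `exists_dt` : the torus is the group of these elements, all `(l, u)` occur;
* `conjX`, `conjZ` : conjugation of the root elements.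
-/

set_option autoImplicit false
set_option linter.unusedSectionVars false

namespace Cfsg.Agent.H857.OM

open Cfsg.Agent.ChevalleyStructure.CoxeterGeom Cfsg.Agent.Tits.Roots Cfsg.Agent.Nodes.TypeC
open Cfsg.Agent.Nodes.Comb Cfsg.Agent.Nodes.Reps Cfsg.Agent.Nodes.WittRoot
open Cfsg.Agent.TitsThree Cfsg.Agent.TitsThree.Siegel Cfsg.Agent.TitsThree.SiegelGen
  Cfsg.Agent.TitsThree.WittFrame Cfsg.Agent.TitsThree.WittWeyl Cfsg.Agent.TitsThree.WBridge
  Cfsg.Agent.TitsThree.KSideO
open Cfsg.Agent.KFacts.WittOrth Cfsg.Agent.KFacts.SpecMinus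
open QuadraticMap
open Cfsg.Agent.LieClassical Cfsg.Agent.LieClassical.OrthCore Cfsg.Agent.LieClassical.OrthTrans
open Cfsg.Agent.LieClassical.OrthSimple Cfsg.Agent.LieClassical.OrthFinite
open Cfsg.Agent.LieClassical.OrthForms

variable {F : Type*} [Field F] {m : ℕ} {a b : F}
  (hab : ∀ z₁ z₂ : F, z₁ ^ 2 + a * z₁ * z₂ + b * z₂ ^ 2 = 0 → z₁ = 0 ∧ z₂ = 0)

/-- the space -/
abbrev VV (m : ℕ) (F : Type*) : Type _ := (Fin m ⊕ Fin m) ⊕ Fin 2 → F

/-- the frame -/
noncomputable abbrev FF (m : ℕ) {F : Type*} [Field F] {a b : F}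
    (hab : ∀ z₁ z₂ : F, z₁ ^ 2 + a * z₁ * z₂ + b * z₂ ^ 2 = 0 → z₁ = 0 ∧ z₂ = 0) :
    Frame (HO (minusForm m F a b)) (Fin m) := toFrame (wminus m F a b hab)

/-- the vectors of `V0` -/
def io (m : ℕ) (a b : F) : KK a b →ₗ[F] VV m F where
  toFun z := Sum.elim (fun _ => 0) ![z.re, z.im]
  map_add' z w := by
    funext j
    rcases j with j | j
    · simp
    · fin_cases j <;> simp
  map_smul' c z := by
    funext j
    rcases j with j | j
    · simp
    · fin_cases j <;> simp

/-- the coordinate in the quadratic extension -/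
def kap (m : ℕ) (a b : F) : VV m F →ₗ[F] KK a b where
  toFun v := ⟨v (Sum.inr 0), v (Sum.inr 1)⟩
  map_add' _ _ := rfl
  map_smul' _ _ := rfl

theorem kap_io (z : KK a b) : kap m a b (io m a b z) = z := rfl

theorem io_inl (z : KK a b) (j : Fin m ⊕ Fin m) : io m a b z (Sum.inl j) = 0 := rfl
theorem io_zero (z : KK a b) : io m a b z (Sum.inr 0) = z.re := rfl
theorem io_one (z : KK a b) : io m a b z (Sum.inr 1) = z.im := rfl

theorem io_injective : Function.Injective (io m a b) := Function.LeftInverse.injective kap_io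

theorem io_mem (z : KK a b) : io m a b z ∈ (wminus m F a b hab).V0 := fun j => io_inl z j

theorem io_kap {v : VV m F} (hv : v ∈ (wminus m F a b hab).V0) : io m a b (kap m a b v) = v := by
  funext j
  rcases j with j | j
  · exact (hv j).symm
  · fin_cases j <;> rfl

theorem Q_io (z : KK a b) : minusForm m F a b (io m a b z) = QuadraticAlgebra.norm z := by
  rw [coe_minusForm, quadFormMinus_apply, norm_eq, io_zero, io_one]
  simp [io_inl]

theorem polar_io (z w : KK a b) : polar (minusForm m F a b) (io m a b z) (io m a b w) =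
    QuadraticAlgebra.trace (z * star w) := by
  rw [polar, ← map_add, Q_io, Q_io, Q_io, norm_add]
  ring

/-- the admissible pair with coordinate `z` -/
def adm (m : ℕ) (z : KK a b) : (FF m hab).Adm :=
  ⟨io m a b z, -(minusForm m F a b) (io m a b z), io_mem hab z, rfl⟩

theorem adm_w (z : KK a b) : (adm hab m z).w = io m a b z := rfl

theorem adm_c (z : KK a b) : (adm hab m z).c = -QuadraticAlgebra.norm z := by
  change -(minusForm m F a b) (io m a b z) = _
  rw [Q_io]

theorem adm_surj (p : (FF m hab).Adm) : ∃ z, p = adm hab m z := by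
  have h1 : p.w ∈ (wminus m F a b hab).V0 := p.ok.1
  refine ⟨kap m a b p.w, ?_⟩
  have h2 : p.w = (adm hab m (kap m a b p.w)).w := (io_kap hab h1).symm
  apply Frame.Adm.ext h2
  have h3 : p.c = -(minusForm m F a b) p.w := p.ok.2
  rw [h3]
  change _ = -(minusForm m F a b) (io m a b (kap m a b p.w))
  rw [io_kap hab h1]

variable [Finite F] [CharP F 2]

theorem orth : Orth (FF m hab) := orth_minus CharTwo.two_eq_zero m a b hab

theorem adm_mul (z w : KK a b) : adm hab m (z + w) = adm hab m z * adm hab m w :=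
  (orth hab).adm_ext (by rw [Frame.Adm.mul_w, adm_w, adm_w, adm_w, map_add])

/-- the elements of the torus -/
structure Dt (g : VV m F ≃ₗ[F] VV m F) (l : Fin m → F) (u : KK a b) : Prop where
  mem : g ∈ E (minusForm m F a b)
  ne : ∀ i, l i ≠ 0
  nu : QuadraticAlgebra.norm u = 1
  t : ∀ i, g ((FF m hab).b (i, true)) = l i • (FF m hab).b (i, true)
  f : ∀ i, g ((FF m hab).b (i, false)) = (l i)⁻¹ • (FF m hab).b (i, false)
  v : ∀ z, g (io m a b z) = io m a b (u * z)

variable {hab}

theorem Dt.iso {g : VV m F ≃ₗ[F] VV m F} {l : Fin m → F} {u : KK a b} (h : Dt hab g l u) :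
    (HO (minusForm m F a b)).IsIso g := fun v w => polar_map (E_le_O h.mem) v w

theorem Dt.mul {g g' : VV m F ≃ₗ[F] VV m F} {l l' : Fin m → F} {u u' : KK a b} (h : Dt hab g l u)
    (h' : Dt hab g' l' u') : Dt hab (g * g') (fun i => l i * l' i) (u * u') where
  mem := mul_mem h.mem h'.mem
  ne i := mul_ne_zero (h.ne i) (h'.ne i)
  nu := by rw [map_mul, h.nu, h'.nu, one_mul]
  t i := by rw [mul_apply', h'.t, map_smul, h.t, smul_smul, mul_comm]
  f i := by rw [mul_apply', h'.f, map_smul, h.f, smul_smul, mul_inv, mul_comm]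
  v z := by rw [mul_apply', h'.v, h.v, mul_assoc]

theorem Dt.one : Dt hab (1 : VV m F ≃ₗ[F] VV m F) (fun _ => 1) (1 : KK a b) where
  mem := one_mem _
  ne _ := one_ne_zero
  nu := map_one _
  t i := by rw [one_smul]; rfl
  f i := by rw [inv_one, one_smul]; rfl
  v z := by rw [one_mul]; rfl

/-- an element is determined by its coefficients -/
theorem Dt.ext {g g' : VV m F ≃ₗ[F] VV m F} {l : Fin m → F} {u : KK a b} (h : Dt hab g l u)
    (h' : Dt hab g' l u) : g = g' := by
  have h1 : g⁻¹ * g' = 1 := by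
    refine (orth hab).eq_one ?_ ?_
    · rintro ⟨i, s⟩
      rw [mul_apply']
      apply inv_apply_of
      cases s
      · rw [h.f, h'.f]
      · rw [h.t, h'.t]
    · intro w hw
      have hw' : w ∈ (wminus m F a b hab).V0 := hw
      rw [mul_apply']
      apply inv_apply_of
      rw [← io_kap hab hw', h.v, h'.v]
  exact inv_mul_eq_one.1 h1

theorem Dt.mono {g : VV m F ≃ₗ[F] VV m F} {l : Fin m → F} {u : KK a b} (h : Dt hab g l u) :
    Mono (FF m hab) g id := by
  rintro ⟨i, s⟩
  cases s
  · exact ⟨_, inv_ne_zero (h.ne i), h.f i⟩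
  · exact ⟨_, h.ne i, h.t i⟩

theorem Dt.tor {g : VV m F ≃ₗ[F] VV m F} {l : Fin m → F} {u : KK a b} (h : Dt hab g l u) :
    g ∈ Nodes.WittRGD.Tor (FF m hab) (E (minusForm m F a b)) := ⟨h.mem, h.mono⟩

/-- an element with trivial coefficients is trivial -/
theorem Dt.eq_one {g : VV m F ≃ₗ[F] VV m F} {l : Fin m → F} {u : KK a b} (h : Dt hab g l u) (hl : ∀ i, l i = 1)
    (hu : u = 1) : g = 1 := by
  have h1 : l = fun _ => 1 := funext hl
  subst h1 hu
  exact h.ext Dt.one

/-! ### the elements of the torus have this form -/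

theorem exists_of_tor (hm : 2 ≤ m) {g : VV m F ≃ₗ[F] VV m F}
    (hg : g ∈ Nodes.WittRGD.Tor (FF m hab) (E (minusForm m F a b))) : ∃ l u, Dt hab g l u := by
  have : Fact (∀ r : F, r ^ 2 ≠ -b + a * r) := fact_of hab
  have : Fact (Nat.Prime 2) := ⟨Nat.prime_two⟩
  have : Finite (VV m F ≃ₗ[F] VV m F) :=
    Finite.of_injective (fun g : VV m F ≃ₗ[F] VV m F => (g : VV m F → VV m F)) DFunLike.coe_injective
  have hA := ambT_minus (F := F) CharTwo.two_eq_zero hm a b hab
  have O := orth (m := m) hab
  have hgE : g ∈ E (minusForm m F a b) := hg.1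
  have hiso : ∀ v w, (HO (minusForm m F a b)).h (g v) (g w) = (HO (minusForm m F a b)).h v w :=
    fun v w => polar_map (E_le_O hgE) v w
  choose L hL0 hL using hg.2
  have hLn : ∀ i : Fin m, L (i, false) = (L (i, true))⁻¹ := by
    intro i
    have h1 := hiso ((FF m hab).b (i, true)) ((FF m hab).b (i, false))
    rw [hL, hL, HForm.smul_left, HForm.smul_right, O.σ] at h1
    have h2 : (HO (minusForm m F a b)).h ((FF m hab).b (id (i, true))) ((FF m hab).b (id (i, false))) = 1 :=
      O.hbb (i, true)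
    have h3 : (HO (minusForm m F a b)).h ((FF m hab).b (i, true)) ((FF m hab).b (i, false)) = 1 :=
      O.hbb (i, true)
    rw [h2, h3, mul_one] at h1
    exact eq_inv_of_mul_eq_one_right h1
  have hV : ∀ w ∈ (wminus m F a b hab).V0, g w ∈ (wminus m F a b hab).V0 := fun w hw =>
    hA.map_V0 hg.1 hg.2 (ρ := id) (fun _ => rfl) hw
  let f : KK a b →ₗ[F] KK a b := (kap m a b).comp ((g : VV m F →ₗ[F] VV m F).comp (io m a b))
  have hf : ∀ z, io m a b (f z) = g (io m a b z) := fun z => io_kap hab (hV _ (io_mem hab z))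
  have hfn : ∀ z, QuadraticAlgebra.norm (f z) = QuadraticAlgebra.norm z := by
    intro z
    rw [← Q_io (m := m), hf, mem_O.1 (E_le_O hgE), Q_io]
  obtain ⟨h1, h2⟩ := isom hfn
  -- in the second case `g` is trivial on `V0`
  have h3 : ∀ z, f z = f 1 * z := by
    rcases h2 with h2 | h2
    · exact h2
    have hff : ∀ z, f (f z) = z := by
      intro z
      rw [h2 (f z), h2 z, star_mul, star_star]
      calc f 1 * (z * star (f 1)) = (f 1 * star (f 1)) * z := by ring
        _ = z := by rw [mul_star_of_norm h1, one_mul]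
    have hgg : ∀ z, (g * g) (io m a b z) = io m a b z := by
      intro z
      rw [mul_apply', ← hf, ← hf, hff]
    have hcop := hA.tcop
    obtain ⟨k, hk⟩ := (Nat.coprime_two_right.1 hcop)
    have hgk : g ^ (2 * k + 1) = 1 := by
      have h4 := pow_card_eq_one' (x := (⟨g, hg⟩ : Nodes.WittRGD.Tor (FF m hab) (modelMinus hm a b hab).I))
      rw [hk] at h4
      exact congrArg Subtype.val h4
    have hpow : ∀ (k : ℕ) (z : KK a b), ((g * g) ^ k) (io m a b z) = io m a b z := by
      intro k z
      induction k with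
      | zero => rfl
      | succ k ih => rw [pow_succ, mul_apply', hgg, ih]
    have hg1 : ∀ z, g (io m a b z) = io m a b z := by
      intro z
      have h4 : g ^ (2 * k + 1) = g * (g * g) ^ k := by
        rw [← pow_two, ← pow_mul, pow_succ']
      have h5 := congrArg (fun x : VV m F ≃ₗ[F] VV m F => x (io m a b z)) (h4.symm.trans hgk)
      simp only [mul_apply', hpow] at h5
      exact h5
    have hf1 : ∀ z, f z = z := fun z => io_injective (m := m) (by rw [hf, hg1])
    intro z
    rw [hf1, hf1, one_mul]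
  refine ⟨fun i => L (i, true), f 1, ⟨hgE, fun i => hL0 _, h1, fun i => hL _, fun i => ?_, fun z => ?_⟩⟩
  · change _ = (L (i, true))⁻¹ • _
    rw [← hLn, hL]
    rfl
  · rw [← hf, h3]

/-! ### all coefficients occur -/

theorem nZ_mem' (x : Fin m × Bool) (p : (FF m hab).Adm) : nZ (FF m hab) x p ∈ E (minusForm m F a b) :=
  mul_mem (mul_mem (Z_mem _ _ _) (Z_mem _ _ _)) (Z_mem _ _ _)

/-- the diagonal elements which are trivial on `V0` -/
theorem exists_diag {l : Fin m → F} (hl : ∀ i, l i ≠ 0) :
    ∃ g : VV m F ≃ₗ[F] VV m F, Dt hab g l (1 : KK a b) := by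
  classical
  have O := orth (m := m) hab
  obtain ⟨p0, hp0⟩ := O.p0
  have key : ∀ s : Finset (Fin m), ∃ g : VV m F ≃ₗ[F] VV m F,
      Dt hab g (fun i => if i ∈ s then l i else 1) (1 : KK a b) := by
    intro s
    induction s using Finset.induction_on with
    | empty =>
      refine ⟨1, ?_⟩
      have h1 : (fun i : Fin m => if i ∈ (∅ : Finset (Fin m)) then l i else 1) = fun _ => (1 : F) := by
        funext i; simp
      rw [h1]
      exact Dt.one
    | insert j s hj ih =>
      obtain ⟨g, hg⟩ := ih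
      obtain ⟨r, hr⟩ := exists_sq (l j)
      have hr0 : r ≠ 0 := by
        rintro rfl
        exact hl j (by rw [← hr]; simp)
      have h1 := O.hZ_co (a := (j, true)) hp0 hr0
      have h2 : Dt hab (hZ (FF m hab) (j, true) p0 r) (fun i => if i = j then l j else 1) (1 : KK a b) := by
        refine ⟨mul_mem (nZ_mem' _ _) (inv_mem (nZ_mem' _ _)), fun i => ?_, map_one _, fun i => ?_, fun i => ?_,
          fun z => ?_⟩
        · split_ifs
          · exact hl j
          · exact one_ne_zero
        · rw [h1.ap]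
          by_cases hi : i = j
          · subst hi
            rw [if_pos rfl, lZ_self, ← pow_two, hr]
          · rw [if_neg hi, lZ_of (a := (j, true)) (z := (i, true)) hi]
        · rw [h1.ap]
          by_cases hi : i = j
          · subst hi
            rw [if_pos rfl]
            have e : ((i, false) : Fin m × Bool) = ng (i, true) := rfl
            rw [e, lZ_ng, ← pow_two, hr]
          · rw [if_neg hi, lZ_of (a := (j, true)) (z := (i, false)) hi, inv_one]
        · rw [one_mul]
          exact h1.fx _ (io_mem hab z)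
      refine ⟨hZ (FF m hab) (j, true) p0 r * g, ?_⟩
      have h3 := h2.mul hg
      have e : (fun i => (if i = j then l j else 1) * (if i ∈ s then l i else 1)) =
          fun i => if i ∈ insert j s then l i else 1 := by
        funext i
        by_cases hi : i = j
        · subst hi
          rw [if_pos rfl, if_neg hj, if_pos (Finset.mem_insert_self _ _), mul_one]
        · rw [if_neg hi, one_mul]
          by_cases his : i ∈ s
          · rw [if_pos his, if_pos (Finset.mem_insert_of_mem his)]
          · rw [if_neg his, if_neg (by rw [Finset.mem_insert]; push Not; exact ⟨hi, his⟩)]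
      rw [one_mul, e] at h3
      exact h3
  obtain ⟨g, hg⟩ := key Finset.univ
  have e : (fun i => if i ∈ (Finset.univ : Finset (Fin m)) then l i else 1) = l := by
    funext i; rw [if_pos (Finset.mem_univ i)]
  rw [e] at hg
  exact ⟨g, hg⟩

/-- the rotations of `V0` -/
theorem exists_rot (hm : 0 < m) {u : KK a b} (hu : QuadraticAlgebra.norm u = 1) :
    ∃ g : VV m F ≃ₗ[F] VV m F, Dt hab g (fun _ => 1) u := by
  have : Fact (∀ r : F, r ^ 2 ≠ -b + a * r) := fact_of hab
  have : CharP (KK a b) 2 := charP_KK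
  have O := orth (m := m) hab
  obtain ⟨w, hw, hwu⟩ := exists_sq_norm hu
  let i0 : Fin m := ⟨0, hm⟩
  have hc : ∀ w : KK a b, QuadraticAlgebra.norm w = 1 → (adm hab m w).c = 1 := by
    intro w hw
    rw [adm_c, hw, O.neg]
  have hc0 : ∀ w : KK a b, QuadraticAlgebra.norm w = 1 → (adm hab m w).c ≠ 0 := by
    intro w hw
    rw [hc w hw]
    exact one_ne_zero
  have h1 : ∀ w : KK a b, QuadraticAlgebra.norm w = 1 →
      nZ (FF m hab) (i0, true) (adm hab m w) ((FF m hab).b (i0, false)) = (FF m hab).b (i0, true) := by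
    intro w hw
    have h2 := nZ_apply_neg (FF m hab) (i0, true) (adm hab m w) (hc0 w hw)
    rw [O.η, one_mul, hc w hw, one_smul] at h2
    exact h2
  have h2 : ∀ w : KK a b, QuadraticAlgebra.norm w = 1 →
      nZ (FF m hab) (i0, true) (adm hab m w) ((FF m hab).b (i0, true)) = (FF m hab).b (i0, false) := by
    intro w hw
    have h2 := nZ_apply_self (FF m hab) (i0, true) (adm hab m w) (hc0 w hw)
    rw [O.η, O.ε, O.σ, hc w hw, inv_one, one_mul, one_mul, one_smul] at h2
    exact h2
  have h3 : ∀ w z : KK a b, QuadraticAlgebra.norm w = 1 →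
      nZ (FF m hab) (i0, true) (adm hab m w) (io m a b z) = io m a b (w ^ 2 * star z) := by
    intro w z hw
    rw [nZ_apply_V0 (FF m hab) (i0, true) (adm hab m w) (hc0 w hw) (io_mem hab z), O.ε, hc w hw, inv_one, one_mul,
      one_mul]
    have h4 : (HO (minusForm m F a b)).h (io m a b z) (adm hab m w).w = QuadraticAlgebra.trace (z * star w) :=
      polar_io z w
    rw [h4, adm_w, ← map_smul, ← map_add]
    congr 1
    rw [Algebra.smul_def, QuadraticAlgebra.algebraMap_trace_eq_add_star, star_mul, star_star]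
    have h5 : w * star w = 1 := mul_star_of_norm hw
    have h6 : (2 : KK a b) = 0 := CharTwo.two_eq_zero
    linear_combination z * h5 + z * h6
  have h11 : QuadraticAlgebra.norm (1 : KK a b) = 1 := map_one _
  refine ⟨nZ (FF m hab) (i0, true) (adm hab m w) * (nZ (FF m hab) (i0, true) (adm hab m 1))⁻¹,
    ⟨mul_mem (nZ_mem' _ _) (inv_mem (nZ_mem' _ _)), fun _ => one_ne_zero, hu, fun i => ?_, fun i => ?_, fun z => ?_⟩⟩
  · rw [one_smul, mul_apply']
    by_cases hi : i = i0
    · subst hi
      rw [inv_apply_of (h1 1 h11), h1 w hw]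
    · rw [inv_apply_of (nZ_apply_of_ne (FF m hab) (x := (i0, true)) (z := (i, true)) hi _),
        nZ_apply_of_ne (FF m hab) (x := (i0, true)) (z := (i, true)) hi _]
  · rw [inv_one, one_smul, mul_apply']
    by_cases hi : i = i0
    · subst hi
      rw [inv_apply_of (h2 1 h11), h2 w hw]
    · rw [inv_apply_of (nZ_apply_of_ne (FF m hab) (x := (i0, true)) (z := (i, false)) hi _),
        nZ_apply_of_ne (FF m hab) (x := (i0, true)) (z := (i, false)) hi _]
  · have h4 : nZ (FF m hab) (i0, true) (adm hab m 1) (io m a b (star z)) = io m a b z := by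
      rw [h3 1 _ h11, star_star, one_pow, one_mul]
    rw [mul_apply', inv_apply_of h4, h3 w _ hw, star_star, hwu]

theorem exists_dt (hm : 0 < m) {l : Fin m → F} (hl : ∀ i, l i ≠ 0) {u : KK a b}
    (hu : QuadraticAlgebra.norm u = 1) : ∃ g : VV m F ≃ₗ[F] VV m F, Dt hab g l u := by
  obtain ⟨g, hg⟩ := exists_diag (hab := hab) hl
  obtain ⟨k, hk⟩ := exists_rot (hab := hab) hm hu
  refine ⟨g * k, ?_⟩
  have h1 := hg.mul hk
  rw [one_mul] at h1
  have e : (fun i => l i * 1) = l := by funext i; rw [mul_one]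
  rw [e] at h1
  exact h1

/-! ### conjugation of the root elements -/

theorem Dt.conjX {g : VV m F ≃ₗ[F] VV m F} {l : Fin m → F} {u : KK a b} (h : Dt hab g l u) {i j : Fin m}
    (hij : i ≠ j) (s : F) : g * (FF m hab).X (i, true) (j, false) s * g⁻¹ =
      (FF m hab).X (i, true) (j, false) (l i * (l j)⁻¹ * s) := by
  have O := orth (m := m) hab
  rw [conj_X (FF m hab) h.iso (x := (i, true)) (y := (j, false)) hij (x' := (i, true)) (y' := (j, false)) hij
    (h.t i) (h.f j), O.σ, O.η, inv_one, mul_one, mul_one]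

theorem Dt.conjZ {g : VV m F ≃ₗ[F] VV m F} {l : Fin m → F} {u : KK a b} (h : Dt hab g l u) (i : Fin m)
    (z : KK a b) : g * (FF m hab).Z (i, true) (adm hab m z) * g⁻¹ =
      (FF m hab).Z (i, true) (adm hab m (algebraMap F (KK a b) (l i) * u * z)) := by
  have O := orth (m := m) hab
  rw [conj_Z (FF m hab) h.iso (h.t i) (adm hab m z) (adm hab m (u * z)) (by rw [adm_w, adm_w, h.v])
    (by rw [adm_c, adm_c, map_mul, h.nu, one_mul])]
  congr 1
  apply O.adm_ext
  rw [Frame.Adm.smul_w, adm_w, adm_w, ← map_smul, O.σ, Algebra.smul_def, mul_assoc]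

end Cfsg.Agent.H857.OM
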